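import Cfsg.Agent.H7.Fi22.E
import Cfsg.Agent.H7.Fi22.P

set_option autoImplicit false
set_option linter.unusedVariables false
set_option maxRecDepth 100000
set_option Elab.async false

namespace CfsgH7.Fi22

open Cfsg

def L : List (ℕ × ℕ × List ℕ) := [(1, 693, [0x1, 0x30001, 0x20001, 0x10001, 0x50001, 0x70001, 0x60001, 0x481401203021041840011]), (11, 180, [0x50001, 0x20001, 0x60001, 0x120302107000a, 0x481401203021041840011]), (106, 3, [0x253027301410253012038730124031025820371032014002e]), (14, 48, [0x30001, 0x120302107000a, 0x481401203021041840011, 0x5265012030210562570012, 0x52654814012030210418456250019]), (2, 32, [0x30001, 0x20001, 0x10001, 0x52654814012030210418456250019, 0x73012030210752654814012030210418456257012030210370031]), (8, 8, [0x60001, 0x123012030210000c, 0x481401203021041840011]), (10, 2, [0x601203021032152650120302105625001e]), (694, 2, [0x80001])]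

theorem stab : P.W.clL HL = MulAction.stabilizer Spor.Fi22 (P.W.pt 0) :=
  rk.eq_stab' rk.le_stab (A.cl_top _ P.code_lt)
    (EH.enum _ _ _ r9 (P.S_mem invOk (by decide +kernel))).1

theorem cb : Nat.card Spor.Fi22 = P.W.N * 18393661440 ∧
    Nat.card (MulAction.stabilizer Spor.Fi22 (P.W.pt 0)) = 18393661440 ∧
      P.W.Base ⊤ (0 :: L.map Prod.fst) :=
  rk.card_base (j := 9) (rk.bd_stab (A.cl_top _ P.code_lt) b9) (by decide +kernel)

/-- the group on 3510 points -/
noncomputable def W : WX Spor.Fi22 (Pts P.phi) := P.WX invOk [0, 1, 11, 106, 14, 2, 8, 10, 694] cb.2.2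

theorem card : Nat.card Spor.Fi22 = 64561751654400 := cb.1

theorem coatom : IsCoatom (MulAction.stabilizer Spor.Fi22 (W.pt 0)) :=
  rk.coatom (by decide) (by decide +kernel)

theorem simple : IsSimpleGroup Spor.Fi22 :=
  W.simple (p := 13) (u := (.w 0x5421237208000a)) (L := [(0, [((.w 0x52654814012030210418456253248140120302104184684052180410038), none), ((.w 0x25683021035201814012030210418425302106265012030210562537216003b), none), ((.w 0x52654814012030210418456253248140120302104184684052180410038), none), ((.w 0x25683021035201814012030210418425302106265012030210562537216003b), none), ((.w 0x52654814012030210418456253248140120302104184684052180410038), none), ((.w 0x25683021035201814012030210418425302106265012030210562537216003b), none)]), (1, [((.w 0x10002), some (.w 0x1))]), (2, [((.w 0x20002), some (.w 0x1))]), (3, [((.w 0x30002), some (.w 0x1))]), (4, [((.w 0x140002), some (.w 0x10001))]), (5, [((.w 0x250002), some (.w 0x20001))]), (6, [((.w 0x560002), some (.w 0x50001))]), (7, [((.w 0x370002), some (.w 0x30001))]), (8, [((.w 0x480002), some (.w 0x40001))]), (9, [((.w 0x0), some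 (.w 0x8410230006))]), (10, [((.w 0x0), some (.w 0x841023841023841023841023841023001e))]), (11, [((.w 0x0), some (.w 0x140250370009))]), (12, [((.w 0x0), some (.w 0x410250005))]), (13, [((.w 0x0), some (.w 0x84102530007))]), (14, [((.w 0x0), some (.w 0x41025630007))])])
    rk.trans coatom cb.2.1 (by decide +kernel)

end CfsgH7.Fi22
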